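import Groth.Agent.CanPar.K795.Iface
import Groth.Agent.Curves.K321.LatSum

/-!
# The degree of a locally free module from a basis of the generic stalk

Proofs of the interfaces `DegLattice` and `StdFinset` of `Groth.Agent.CanPar.K795.Iface`.
-/

set_option autoImplicit false
universe u

open CategoryTheory CategoryTheory.Limits AlgebraicGeometry TopologicalSpace Opposite Module

namespace K169.DegLat

open Groth.Agent Groth.Agent.CycB.StalkExact Groth.Agent.CycB.DegIntegral
open Groth.Agent.Sga67.Sec Groth.Agent.Sga67.LocBasis Groth.Agent.Sga67.LocBasisStalk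
open Groth.Agent.Krr.H487.LocBasisPull K321.LatLoc K321.LatRoof
open Groth.Agent.CanPar.K795.Iface

variable {X : Scheme.{u}} [IsIntegral X]

theorem spe_smul {M : X.Modules} {x : X} (r : X.presheaf.stalk x) (m : M.presheaf.stalk x) :
    spe M x (r • m) = algebraMap (X.presheaf.stalk x) X.functionField r • spe M x m :=
  spec_smul r m

theorem spe_sum {M : X.Modules} {x : X} {ι : Type*} (s : Finset ι) (f : ι → M.presheaf.stalk x) :
    spe M x (∑ i ∈ s, f i) = ∑ i ∈ s, spe M x (f i) :=
  map_sum (M.presheaf.stalkSpecializes (genericPoint_specializes x)).hom f s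

/-- a basis of the stalk attached to a generic basis given by a local basis -/
theorem exists_stalk {M : X.Modules} {n : ℕ} {x : X}
    {γ : Basis (Fin n) (X.presheaf.stalk (genericPoint X)) (M.presheaf.stalk (genericPoint X))}
    (h : LocAt M x γ) :
    ∃ b : Basis (Fin n) (X.presheaf.stalk x) (M.presheaf.stalk x), ∀ j, spe M x (b j) = γ j := by
  obtain ⟨U, hxU, hηU, s, hs, hsγ⟩ := h
  obtain ⟨b, hb⟩ := exists_stalkBasis hs x hxU
  refine ⟨b, fun j => ?_⟩
  rw [hsγ, hb]
  exact spec_ger hxU hηU _

/-- change of basis in the generic stalk of two bases of the stalk at `x` -/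
theorem toMatrix_spe {M : X.Modules} {n : ℕ} {x : X}
    (γ : Basis (Fin n) (X.presheaf.stalk (genericPoint X)) (M.presheaf.stalk (genericPoint X)))
    (b : Basis (Fin n) (X.presheaf.stalk x) (M.presheaf.stalk x)) (hb : ∀ j, spe M x (b j) = γ j)
    (m : Fin n → M.presheaf.stalk x) :
    γ.toMatrix (fun j => spe M x (m j)) =
      (algebraMap (X.presheaf.stalk x) X.functionField).mapMatrix (b.toMatrix m) := by
  ext i j
  rw [Basis.toMatrix_apply]
  have h1 : spe M x (m j) = ∑ c, algebraMap (X.presheaf.stalk x) X.functionField (b.repr (m j) c) • γ c := by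
    conv_lhs => rw [← b.sum_repr (m j)]
    rw [spe_sum]
    refine Finset.sum_congr rfl fun c _ => ?_
    rw [spe_smul, hb]
  rw [h1, map_sum, Finsupp.finsetSum_apply, Finset.sum_eq_single i]
  · rw [map_smul, Basis.repr_self, Finsupp.smul_apply, Finsupp.single_eq_same, smul_eq_mul, mul_one]
    rfl
  · intro c _ hc
    rw [map_smul, Basis.repr_self, Finsupp.smul_apply, Finsupp.single_eq_of_ne hc.symm, smul_zero]
  · intro h
    exact absurd (Finset.mem_univ i) h

theorem ordFrac_unit {R K : Type u} [CommRing R] [IsDomain R] [IsNoetherianRing R] [Ring.KrullDimLE 1 R] [Field K]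
    [Algebra R K] [IsFractionRing R K] {a : R} (ha : IsUnit a) : CycAlg.ordFrac R K (algebraMap R K a) = 0 := by
  rw [CycB.OrdFrac.ordFrac_algebraMap' _ _ ha.ne_zero]
  have : Subsingleton (R ⧸ Ideal.span {a}) := by
    rw [Ideal.span_singleton_eq_top.mpr ha]
    exact Ideal.Quotient.subsingleton_iff.mpr rfl
  rw [Module.length_eq_zero]
  rfl

theorem ordFrac_irreducible {R K : Type u} [CommRing R] [IsDomain R] [IsPrincipalIdealRing R] [Field K]
    [Algebra R K] [IsFractionRing R K] {a : R} (ha : Irreducible a) : CycAlg.ordFrac R K (algebraMap R K a) = 1 := by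
  rw [CycB.OrdFrac.ordFrac_algebraMap' _ _ ha.ne_zero]
  have hmax : (Ideal.span {a}).IsMaximal := PrincipalIdealRing.isMaximal_of_irreducible ha
  have : IsSimpleModule R (R ⧸ Ideal.span {a}) := by
    rw [isSimpleModule_iff_isCoatom]
    exact hmax.out
  rw [Module.length_eq_one_iff.mpr this]
  rfl

/-- the order of the determinant of the inverse change of basis -/
theorem ordFrac_toMatrix {M : X.Modules} {n : ℕ} {x : X} [IsNoetherianRing (X.presheaf.stalk x)]
    [Ring.KrullDimLE 1 (X.presheaf.stalk x)]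
    {γ : Basis (Fin n) (X.presheaf.stalk (genericPoint X)) (M.presheaf.stalk (genericPoint X))}
    (hγ : LocAt M x γ)
    (β : Basis (Fin n) (X.presheaf.stalk (genericPoint X)) (M.presheaf.stalk (genericPoint X)))
    (m : Basis (Fin n) (X.presheaf.stalk x) (M.presheaf.stalk x)) :
    CycAlg.ordFrac (X.presheaf.stalk x) X.functionField (γ.toMatrix β).det =
      -CycAlg.ordFrac (X.presheaf.stalk x) X.functionField (β.toMatrix fun j => spe M x (m j)).det := by
  obtain ⟨b, hb⟩ := exists_stalk hγ
  have h1 : γ.toMatrix β * β.toMatrix (fun j => spe M x (m j)) = γ.toMatrix (fun j => spe M x (m j)) :=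
    Basis.toMatrix_mul_toMatrix _ _ _
  have h2 := congrArg Matrix.det h1
  rw [Matrix.det_mul, toMatrix_spe γ b hb m] at h2
  have hu : IsUnit (b.toMatrix m).det := by
    have h3 : b.toMatrix m * m.toMatrix b = 1 := Basis.toMatrix_mul_toMatrix_flip _ _
    exact IsUnit.of_mul_eq_one _ (by rw [← Matrix.det_mul, h3, Matrix.det_one])
  have h4 : ((algebraMap (X.presheaf.stalk x) X.functionField).mapMatrix (b.toMatrix m)).det =
      algebraMap (X.presheaf.stalk x) X.functionField (b.toMatrix m).det := by
    rw [RingHom.map_det]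
  rw [h4] at h2
  have h5 : algebraMap (X.presheaf.stalk x) X.functionField (b.toMatrix m).det ≠ 0 :=
    (hu.map (algebraMap (X.presheaf.stalk x) X.functionField)).ne_zero
  have h6 : (γ.toMatrix β).det ≠ 0 := fun h => h5 (by rw [← h2, h, zero_mul])
  have h7 : (β.toMatrix fun j => spe M x (m j)).det ≠ 0 := fun h => h5 (by rw [← h2, h, mul_zero])
  have h8 := CycB.OrdFrac.ordFrac_mul (X.presheaf.stalk x) X.functionField h6 h7
  have h9 := ordFrac_unit (K := X.functionField) hu
  rw [← h2] at h9
  rw [h9] at h8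
  omega

theorem degLattice : DegLattice.{u} := by
  intro k _ X _ _ _ hdim hval n E hE β S hηS hout m ϖ hϖ e he
  classical
  have hLN : IsLocallyNoetherian X := LocallyOfFiniteType.isLocallyNoetherian (X ↘ Spec (CommRingCat.of k))
  have hX : ∀ x : X, IsPrincipalIdealRing (X.presheaf.stalk x) := fun x => by
    have := hval x
    have hN : IsNoetherianRing (X.presheaf.stalk x) := inferInstance
    exact ((IsBezout.TFAE (R := X.presheaf.stalk x)).out 0 1).mp hN
  obtain ⟨hcl, hncl, -⟩ := K321.LatSum.points k X hdim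
  choose γ hγ using fun x => exists_locAt' hE x
  obtain ⟨hfin, hsum⟩ := K321.LatSum.euler_eq k hdim hX hE β γ hγ
  have hS : ∀ x ∈ S, CycAlg.ordFrac (X.presheaf.stalk x) X.functionField ((γ x).toMatrix β).det = - e x := by
    intro x hx
    have := hX x
    rw [ordFrac_toMatrix (hγ x) β (m x)]
    congr 1
    obtain ⟨u, hu⟩ := he x hx
    rw [hu]
    have h1 : algebraMap (X.presheaf.stalk x) X.functionField (ϖ x) ≠ 0 := by
      rw [Ne, FaithfulSMul.algebraMap_eq_zero_iff]
      exact (hϖ x hx).ne_zero
    rw [CycB.OrdFrac.ordFrac_mul _ _ (u.isUnit.map _).ne_zero (zpow_ne_zero _ h1), CycB.OrdFrac.ordFrac_zpow,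
      ordFrac_unit u.isUnit, ordFrac_irreducible (hϖ x hx)]
    ring
  have hS' : ∀ x, x ≠ genericPoint X → x ∉ S →
      CycAlg.ordFrac (X.presheaf.stalk x) X.functionField ((γ x).toMatrix β).det = 0 := by
    intro x hx hxS
    have := hX x
    obtain ⟨m', hm'⟩ := hout x hx hxS
    rw [ordFrac_toMatrix (hγ x) β m']
    have h1 : (fun j => spe E x (m' j)) = β := funext hm'
    rw [h1, Basis.toMatrix_self, Matrix.det_one, CycB.OrdFrac.ordFrac_one, neg_zero]
  unfold Curv2.deg
  rw [hsum]
  rw [finsum_mem_eq_sum_of_inter_support_eq (t := S)]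
  · rw [← Finset.sum_neg_distrib]
    refine Finset.sum_congr rfl fun x hx => ?_
    rw [hS x hx]
    ring
  · ext x
    constructor
    · rintro ⟨hx, hx'⟩
      refine ⟨?_, hx'⟩
      by_contra hxS
      have hne : x ≠ genericPoint X := fun h => hncl (h ▸ hx)
      apply hx'
      change _ * _ = _
      rw [hS' x hne hxS, mul_zero]
    · rintro ⟨hx, hx'⟩
      exact ⟨hcl x (fun h => hηS (h ▸ hx)), hx'⟩

/-- the complement of a nonempty open subset of a proper curve is finite -/
theorem finite_compl (k : Type u) [Field k] (X : Scheme.{u}) [X.Over (Spec (CommRingCat.of k))] [IsIntegral X]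
    [IsProper (X ↘ Spec (CommRingCat.of k))] (hdim : topologicalKrullDim X = 1) (U : X.Opens)
    (hU : genericPoint X ∈ U) : ((U : Set X)ᶜ).Finite := by
  have : IsLocallyNoetherian X := LocallyOfFiniteType.isLocallyNoetherian (X ↘ Spec (CommRingCat.of k))
  have : CompactSpace X := QuasiCompact.compactSpace_of_compactSpace (X ↘ Spec (CommRingCat.of k))
  have : IsNoetherian X := ⟨⟩
  have : NoetherianSpace X := inferInstance
  obtain ⟨hcl, -⟩ := K321.LatSum.points k X hdim
  exact finite_of_isClosed_points U.2.isClosed_compl (fun x hx => hcl x (fun h => hx (h ▸ hU)))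

theorem stdFinset : StdFinset.{u} := by
  intro k _ X _ _ _ hdim n E hE β
  classical
  obtain ⟨U, hηU, s, hs⟩ := exists_locBasis hE (genericPoint X)
  obtain ⟨γ, -, hγ⟩ := exists_locAt hηU s hs
  have hloc : ∀ x ∈ U, LocAt E x γ := fun x hx => ⟨U, hx, hηU, s, hs, hγ⟩
  have hgerm : ∀ f : X.functionField, ∃ V : X.Opens, genericPoint X ∈ V ∧
      ∀ x ∈ V, f ∈ Set.range (algebraMap (X.presheaf.stalk x) X.functionField) := by
    intro f
    obtain ⟨V, hV, t, rfl⟩ := X.presheaf.exists_germ_eq (x := genericPoint X) f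
    refine ⟨V, hV, fun x hx => ⟨X.presheaf.germ V x hx t, ?_⟩⟩
    exact TopCat.Presheaf.germ_stalkSpecializes_apply X.presheaf hx (genericPoint_specializes x) t
  choose V hηV hV using hgerm
  let P : Matrix (Fin n) (Fin n) X.functionField := γ.toMatrix β
  let Q : Matrix (Fin n) (Fin n) X.functionField := β.toMatrix γ
  have hPQ : P * Q = 1 := Basis.toMatrix_mul_toMatrix_flip _ _
  let T : Finset X.functionField := Finset.univ.image (fun ij : Fin n × Fin n => P ij.1 ij.2) ∪
    Finset.univ.image (fun ij : Fin n × Fin n => Q ij.1 ij.2)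
  have hPT : ∀ i j, P i j ∈ T := fun i j => Finset.mem_union_left _ (Finset.mem_image.mpr ⟨(i, j), Finset.mem_univ _, rfl⟩)
  have hQT : ∀ i j, Q i j ∈ T := fun i j => Finset.mem_union_right _ (Finset.mem_image.mpr ⟨(i, j), Finset.mem_univ _, rfl⟩)
  let Z : Set X := (U : Set X)ᶜ ∪ ⋃ f ∈ T, ((V f : X.Opens) : Set X)ᶜ
  have hZ : Z.Finite := (finite_compl k X hdim U hηU).union
    (T.finite_toSet.biUnion fun f _ => finite_compl k X hdim (V f) (hηV f))
  refine ⟨hZ.toFinset, ?_, fun x hx hxZ => ?_⟩
  · rw [Set.Finite.mem_toFinset]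
    rintro (h | h)
    · exact h hηU
    · obtain ⟨f, -, hf⟩ := Set.mem_iUnion₂.mp h
      exact hf (hηV f)
  · rw [Set.Finite.mem_toFinset] at hxZ
    have hxU : x ∈ U := by
      by_contra h
      exact hxZ (Or.inl h)
    have hxV : ∀ f ∈ T, x ∈ V f := fun f hf => by
      by_contra h
      exact hxZ (Or.inr (Set.mem_iUnion₂.mpr ⟨f, hf, h⟩))
    obtain ⟨b, hb⟩ := exists_stalk (hloc x hxU)
    choose P' hP' using fun i j => hV (P i j) x (hxV _ (hPT i j))
    choose Q' hQ' using fun i j => hV (Q i j) x (hxV _ (hQT i j))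
    have hinj := IsFractionRing.injective (X.presheaf.stalk x) X.functionField
    have hPm : (algebraMap (X.presheaf.stalk x) X.functionField).mapMatrix (Matrix.of P') = P := by
      ext i j
      exact hP' i j
    have hQm : (algebraMap (X.presheaf.stalk x) X.functionField).mapMatrix (Matrix.of Q') = Q := by
      ext i j
      exact hQ' i j
    have hdet : IsUnit (Matrix.of P').det := by
      refine IsUnit.of_mul_eq_one (Matrix.of Q').det ?_
      apply hinj
      rw [map_mul, map_one, RingHom.map_det, RingHom.map_det, hPm, hQm, ← Matrix.det_mul, hPQ, Matrix.det_one]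
    refine ⟨b.map (Matrix.toLinearEquiv b (Matrix.of P') hdet), fun j => ?_⟩
    rw [Basis.map_apply]
    have h1 : Matrix.toLinearEquiv b (Matrix.of P') hdet (b j) = ∑ i, P' i j • b i := by
      rw [Matrix.toLinearEquiv_apply, Matrix.toLin_self]
      rfl
    rw [h1, spe_sum]
    have h2 : ∑ i, spe E x (P' i j • b i) = ∑ i, P i j • γ i := by
      refine Finset.sum_congr rfl fun i _ => ?_
      rw [spe_smul, hb, hP']
    rw [h2]
    have h3 := γ.sum_toMatrix_smul_self β j
    exact h3

end K169.DegLat
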